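import Groth.Agent.KrullAki.Basic
import Groth.Agent.HilbFun.Basic
import Mathlib.RingTheory.Algebraic.Basic
import Mathlib.RingTheory.Localization.FractionRing
import Mathlib.LinearAlgebra.Dimension.Finrank
import Mathlib.RingTheory.KrullDimension.Basic

/-! Krull–Akizuki length bound for lattices in a finite dimensional vector space. -/

set_option autoImplicit false
universe u

namespace Groth.Agent.KrullAki

open Module Pointwise HilbFun

section

variable {A : Type u} [CommRing A]

theorem mem_smul_top {M : Type u} [AddCommGroup M] [Module A M] {a : A} {m : M} :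
    m ∈ a • (⊤ : Submodule A M) ↔ ∃ y, a • y = m := by
  rw [Submodule.mem_smul_pointwise_iff_exists]; simp

theorem length_quot_smul_add {M N : Type u} [AddCommGroup M] [Module A M] [AddCommGroup N] [Module A N]
    (g : M →ₗ[A] N) (a : A) :
    length A (M ⧸ a • (⊤ : Submodule A M)) ≤
      length A (LinearMap.ker g ⧸ a • (⊤ : Submodule A (LinearMap.ker g))) +
        length A (LinearMap.range g ⧸ a • (⊤ : Submodule A (LinearMap.range g))) := by
  have hle : a • (⊤ : Submodule A M) ≤
      (a • (⊤ : Submodule A (LinearMap.range g))).comap g.rangeRestrict := fun x hx => by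
    obtain ⟨y, rfl⟩ := mem_smul_top.1 hx
    exact mem_smul_top.2 ⟨g.rangeRestrict y, (map_smul g.rangeRestrict a y).symm⟩
  let h := Submodule.mapQ _ _ g.rangeRestrict hle
  have hh : Function.Surjective h := fun z => by
    obtain ⟨⟨_, m, rfl⟩, rfl⟩ := Submodule.Quotient.mk_surjective _ z
    exact ⟨Submodule.Quotient.mk m, rfl⟩
  rw [length_eq_add_of_exact (LinearMap.ker h).subtype h (Submodule.injective_subtype _) hh
    (fun y => ⟨fun hy => ⟨⟨y, hy⟩, rfl⟩, by rintro ⟨z, rfl⟩; exact z.2⟩)]
  refine add_le_add ?_ le_rfl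
  have hle' : a • (⊤ : Submodule A (LinearMap.ker g)) ≤
      (a • (⊤ : Submodule A M)).comap (LinearMap.ker g).subtype := fun x hx => by
    obtain ⟨y, rfl⟩ := mem_smul_top.1 hx
    exact mem_smul_top.2 ⟨(y : M), rfl⟩
  let k := Submodule.mapQ _ _ (LinearMap.ker g).subtype hle'
  have hk : ∀ z, k z ∈ LinearMap.ker h := fun z => by
    obtain ⟨⟨m, hm⟩, rfl⟩ := Submodule.Quotient.mk_surjective _ z
    show Submodule.Quotient.mk (g.rangeRestrict m) = 0
    rw [show g.rangeRestrict m = 0 from Subtype.ext hm]; rfl
  refine length_le_of_surjective (k.codRestrict _ hk) ?_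
  rintro ⟨y, hy⟩
  obtain ⟨m, rfl⟩ := Submodule.Quotient.mk_surjective _ y
  obtain ⟨⟨_, m', rfl⟩, hm'⟩ := mem_smul_top.1 ((Submodule.Quotient.mk_eq_zero _).1
    (show (Submodule.Quotient.mk (g.rangeRestrict m) : _ ⧸ a • ⊤) = 0 from hy))
  have hmem : m - a • m' ∈ LinearMap.ker g := by
    rw [LinearMap.mem_ker, map_sub, map_smul, sub_eq_zero]
    exact (congrArg Subtype.val hm').symm
  refine ⟨Submodule.Quotient.mk ⟨_, hmem⟩, Subtype.ext ((Submodule.Quotient.eq _).2 ?_)⟩
  exact mem_smul_top.2 ⟨-m', by simp⟩

end

variable {A : Type u} [CommRing A] [IsDomain A] [IsNoetherianRing A] [Ring.KrullDimLE 1 A]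
  {K : Type u} [Field K] [Algebra A K] [IsFractionRing A K]

theorem length_quotient_le_pi {a : A} (ha : a ≠ 0) :
    ∀ (n : ℕ) (M : Type u) [AddCommGroup M] [Module A M] (f : M →ₗ[A] (Fin n → K)),
      Function.Injective f →
      length A (M ⧸ a • (⊤ : Submodule A M)) ≤ n * length A (A ⧸ Ideal.span {a}) := by
  intro n
  induction n with
  | zero =>
    intro M _ _ f hf
    haveI : Subsingleton M := hf.subsingleton
    rw [length_eq_zero]; exact zero_le
  | succ n ih =>
    intro M _ _ f hf
    let g : M →ₗ[A] K := (LinearMap.proj 0).comp f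
    refine (length_quot_smul_add g a).trans ?_
    rw [Nat.cast_succ, add_mul, one_mul]
    refine add_le_add (ih _ (LinearMap.pi fun i : Fin n =>
      (LinearMap.proj i.succ).comp (f.comp (LinearMap.ker g).subtype)) fun x y h => ?_) ?_
    · refine Subtype.ext (hf (funext fun i => ?_))
      induction i using Fin.cases with
      | zero => exact x.2.trans y.2.symm
      | succ i => exact congrFun h i
    · exact length_quotient_le ha (LinearMap.range g).subtype (Submodule.injective_subtype _)

omit [IsDomain A] [IsNoetherianRing A] [Ring.KrullDimLE 1 A] in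
theorem length_pi_quot (a : A) (n : ℕ) :
    length A ((Fin n → A) ⧸ a • (⊤ : Submodule A (Fin n → A))) =
      n * length A (A ⧸ Ideal.span {a}) := by
  let φ : (Fin n → A) →ₗ[A] (Fin n → A ⧸ Ideal.span {a}) :=
    LinearMap.pi fun i => (Submodule.mkQ (Ideal.span {a})).comp (LinearMap.proj i)
  have hφ : Function.Surjective φ := fun y =>
    ⟨fun i => Function.surjInv (Submodule.Quotient.mk_surjective _) (y i),
      funext fun i => Function.surjInv_eq (Submodule.Quotient.mk_surjective _) (y i)⟩
  have hker : LinearMap.ker φ = a • (⊤ : Submodule A (Fin n → A)) := by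
    ext x
    rw [mem_smul_top, LinearMap.mem_ker]
    constructor
    · intro h
      choose y hy using fun i => Ideal.mem_span_singleton'.1
        ((Submodule.Quotient.mk_eq_zero _).1 (congrFun h i))
      exact ⟨y, funext fun i => by simpa [mul_comm] using hy i⟩
    · rintro ⟨y, rfl⟩
      exact funext fun i => (Submodule.Quotient.mk_eq_zero _).2
        (Ideal.mem_span_singleton'.2 ⟨y i, by simp [mul_comm]⟩)
  rw [← hker, (φ.quotKerEquivOfSurjective hφ).length_eq, Module.length_pi_of_fintype]
  simp

variable {L : Type u} [Field L] [Algebra K L] [FiniteDimensional K L]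
  {B : Type u} [CommRing B] [IsDomain B] [Algebra B L] [IsFractionRing B L]
  [Algebra A B] [Algebra A L] [IsScalarTower A K L] [IsScalarTower A B L]

omit [IsDomain A] [IsNoetherianRing A] [Ring.KrullDimLE 1 A] [IsDomain B] in
theorem exists_injective_pi :
    ∃ f : B →ₗ[A] (Fin (finrank K L) → K), Function.Injective f :=
  ⟨((finBasis K L).equivFun.restrictScalars A).toLinearMap.comp
      (IsScalarTower.toAlgHom A B L).toLinearMap,
    ((finBasis K L).equivFun.restrictScalars A).injective.comp (IsFractionRing.injective B L)⟩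

include K L in
theorem length_quot_le_finrank {a : A} (ha : a ≠ 0) :
    length A (B ⧸ a • (⊤ : Submodule A B)) ≤ finrank K L * length A (A ⧸ Ideal.span {a}) := by
  obtain ⟨f, hf⟩ := exists_injective_pi (A := A) (K := K) (L := L) (B := B)
  exact length_quotient_le_pi ha _ B f hf

omit [IsNoetherianRing A] [Ring.KrullDimLE 1 A] [IsDomain B] in
theorem span_range_eq_top :
    Submodule.span K (Set.range (algebraMap B L)) = ⊤ := by
  have hsub : Submodule.span K (Set.range (algebraMap B L)) =
      Subalgebra.toSubmodule (Algebra.adjoin K (Set.range (algebraMap B L))) := by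
    rw [Algebra.adjoin_eq_span]
    congr 1
    rw [← RingHom.coe_range]
    exact (congrArg SetLike.coe (Submonoid.closure_eq (algebraMap B L).range.toSubmonoid)).symm
  rw [hsub, eq_top_iff]
  intro z _
  obtain ⟨b, c, -, rfl⟩ := IsFractionRing.div_surjective B z
  let S := Algebra.adjoin K (Set.range (algebraMap B L))
  have hc : algebraMap B L c ∈ S := Algebra.subset_adjoin ⟨c, rfl⟩
  rw [div_eq_mul_inv]
  exact S.mul_mem (Algebra.subset_adjoin ⟨b, rfl⟩)
    (S.inv_mem_of_algebraic (x := ⟨_, hc⟩) (Algebra.IsAlgebraic.isAlgebraic _))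

include K in
omit [IsNoetherianRing A] [Ring.KrullDimLE 1 A] [IsDomain B] in
/-- Every element of `L` has a nonzero multiple in `B`. -/
theorem exists_smul_mem_range (z : L) :
    ∃ c : A, c ≠ 0 ∧ c • z ∈ Set.range (algebraMap B L) := by
  have hz : z ∈ Submodule.span K (Set.range (algebraMap B L)) := by
    rw [span_range_eq_top (K := K)]; trivial
  induction hz using Submodule.span_induction with
  | mem x hx => exact ⟨1, one_ne_zero, by rwa [one_smul]⟩
  | zero => exact ⟨1, one_ne_zero, 0, by simp⟩
  | add x y _ _ hx hy =>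
    obtain ⟨c, hc, u, hu⟩ := hx
    obtain ⟨d, hd, v, hv⟩ := hy
    refine ⟨c * d, mul_ne_zero hc hd, d • u + c • v, ?_⟩
    have e : ∀ (r : A) (w : B), algebraMap B L (r • w) = r • algebraMap B L w := fun r w =>
      map_smul (IsScalarTower.toAlgHom A B L) r w
    rw [map_add, e, e, hu, hv, smul_add, mul_smul, mul_smul, smul_comm c d x]
  | smul k x _ hx =>
    obtain ⟨c, hc, u, hu⟩ := hx
    obtain ⟨p, q, hq, rfl⟩ := IsFractionRing.div_surjective A k
    refine ⟨q * c, mul_ne_zero (nonZeroDivisors.ne_zero hq) hc, p • u, ?_⟩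
    rw [show algebraMap B L (p • u) = p • algebraMap B L u from
      map_smul (IsScalarTower.toAlgHom A B L) p u, hu, mul_smul, ← algebraMap_smul K p (c • x),
      ← algebraMap_smul K q (c • (algebraMap A K p / algebraMap A K q) • x), smul_comm c,
      ← mul_smul (algebraMap A K q), mul_div_cancel₀ _
        (IsFractionRing.to_map_ne_zero_of_mem_nonZeroDivisors hq)]

include K L in
omit [IsNoetherianRing A] [Ring.KrullDimLE 1 A] in
theorem exists_ne_zero_mem_span_singleton {b : B} (hb : b ≠ 0) :
    ∃ c : A, c ≠ 0 ∧ algebraMap A B c ∈ Ideal.span {b} := by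
  obtain ⟨c, hc, u, hu⟩ := exists_smul_mem_range (A := A) (K := K) (B := B) (algebraMap B L b)⁻¹
  refine ⟨c, hc, Ideal.mem_span_singleton'.2 ⟨u, IsFractionRing.injective B L ?_⟩⟩
  have hb' : algebraMap B L b ≠ 0 := fun h => hb ((IsFractionRing.injective B L) (by rw [h, map_zero]))
  rw [map_mul, hu, Algebra.smul_def, mul_assoc, inv_mul_cancel₀ hb', mul_one,
    ← IsScalarTower.algebraMap_apply]

omit [IsNoetherianRing A] [Ring.KrullDimLE 1 A] [IsDomain A] [IsDomain B] in
theorem span_eq_smul_top (a : A) :
    (Ideal.span {algebraMap A B a}).restrictScalars A = a • (⊤ : Submodule A B) := by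
  ext b
  rw [Submodule.restrictScalars_mem, Ideal.mem_span_singleton', mem_smul_top]
  simp [Algebra.smul_def, mul_comm]

omit [IsNoetherianRing A] [Ring.KrullDimLE 1 A] [IsDomain A] [IsDomain B] in
theorem length_span_eq (a : A) :
    length A (B ⧸ Ideal.span {algebraMap A B a}) = length A (B ⧸ a • (⊤ : Submodule A B)) :=
  ((Submodule.Quotient.restrictScalarsEquiv A (Ideal.span {algebraMap A B a})).symm.trans
    (Submodule.quotEquivOfEq _ _ (span_eq_smul_top a))).length_eq

include K L in
theorem isFiniteLength_quot {a : A} (ha : a ≠ 0) {J : Ideal B} (haJ : algebraMap A B a ∈ J) :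
    IsFiniteLength A (B ⧸ J) := by
  rw [← length_ne_top_iff]
  have hle := (Ideal.span_singleton_le_iff_mem J).2 haJ
  refine ne_top_of_le_ne_top ?_ (length_le_of_surjective
    ((Submodule.factor hle).restrictScalars A) (Submodule.factor_surjective hle))
  rw [length_span_eq]
  exact ne_top_of_le_ne_top (WithTop.mul_ne_top (ENat.natCast_ne_top _)
    (length_ne_top_iff.2 (isFiniteLength_quotient_span_singleton A (mem_nonZeroDivisors_of_ne_zero ha))))
    (length_quot_le_finrank (K := K) (L := L) ha)

include K L in
theorem finite_primes_containing {a : A} (ha : a ≠ 0) :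
    {P : Ideal B | P.IsPrime ∧ algebraMap A B a ∈ P}.Finite := by
  let J : Ideal B := Ideal.span {algebraMap A B a}
  obtain ⟨-, hAr⟩ := isFiniteLength_iff_isNoetherian_isArtinian.1
    (isFiniteLength_quot (K := K) (L := L) ha (Ideal.mem_span_singleton_self (algebraMap A B a)))
  haveI : IsArtinianRing (B ⧸ J) := isArtinian_of_tower A hAr
  refine (Set.finite_range fun q : PrimeSpectrum (B ⧸ J) => q.asIdeal.comap (Ideal.Quotient.mk J)).subset ?_
  rintro P ⟨hP, haP⟩
  have hle : RingHom.ker (Ideal.Quotient.mk J) ≤ P := by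
    rw [Ideal.mk_ker]; exact (Ideal.span_singleton_le_iff_mem P).2 haP
  haveI := hP
  refine ⟨⟨P.map (Ideal.Quotient.mk J), Ideal.map_isPrime_of_surjective Ideal.Quotient.mk_surjective hle⟩, ?_⟩
  show Ideal.comap _ _ = P
  rw [Ideal.comap_map_of_surjective _ Ideal.Quotient.mk_surjective, ← RingHom.ker_eq_comap_bot,
    sup_eq_left.2 hle]

include K L in
theorem isMaximal_of_mem {a : A} (ha : a ≠ 0) {P : Ideal B} [P.IsPrime] (haP : algebraMap A B a ∈ P) :
    P.IsMaximal := by
  obtain ⟨-, hAr⟩ := isFiniteLength_iff_isNoetherian_isArtinian.1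
    (isFiniteLength_quot (K := K) (L := L) ha haP)
  haveI : IsArtinianRing (B ⧸ P) := isArtinian_of_tower A hAr
  exact Ideal.Quotient.maximal_of_isField _ (IsArtinianRing.isField_of_isDomain _)

section Local

variable [IsLocalRing A]

omit [IsNoetherianRing A] in
theorem exists_pow_mem_span {x : A} (hx : x ∈ IsLocalRing.maximalIdeal A) {c : A} (hc : c ≠ 0) :
    ∃ k, x ^ k ∈ Ideal.span {c} := by
  change x ∈ (Ideal.span {c}).radical
  rw [Ideal.radical_eq_sInf]
  refine Submodule.mem_sInf.2 fun p ⟨hcp, hp⟩ => ?_
  have := hp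
  have hne : p ≠ ⊥ := fun h => hc (by
    simpa [h] using hcp (Ideal.mem_span_singleton_self c))
  rwa [IsLocalRing.eq_maximalIdeal (isMaximal_of_ne_bot hne)]

include K L in
theorem finite_iff {x : A} (hx : x ∈ IsLocalRing.maximalIdeal A) (hx0 : x ≠ 0)
    (hBfg : Function.Injective (algebraMap A B)) :
    Module.Finite A B ↔
      length A (B ⧸ x • (⊤ : Submodule A B)) = finrank K L * length A (A ⧸ Ideal.span {x}) := by
  classical
  have hle := length_quot_le_finrank (A := A) (K := K) (L := L) (B := B) hx0
  have hL : length A (A ⧸ Ideal.span {x}) ≠ ⊤ :=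
    length_ne_top_iff.2 (isFiniteLength_quotient_span_singleton A (mem_nonZeroDivisors_of_ne_zero hx0))
  have hnL : (finrank K L : ℕ∞) * length A (A ⧸ Ideal.span {x}) ≠ ⊤ :=
    WithTop.mul_ne_top (ENat.natCast_ne_top _) hL
  -- a lattice inside `B`
  let β := finBasis K L
  choose c hc hcB using fun i => exists_smul_mem_range (A := A) (K := K) (B := B) (β i)
  choose w hw using hcB
  let F : (Fin (finrank K L) → A) →ₗ[A] B := Fintype.linearCombination A w
  have hsm : ∀ (r : A) (v : B), algebraMap B L (r • v) = r • algebraMap B L v := fun r v =>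
    map_smul (IsScalarTower.toAlgHom A B L) r v
  have hcK : ∀ i, algebraMap A K (c i) ≠ 0 := fun i => by
    simpa using (map_ne_zero_iff _ (IsFractionRing.injective A K)).2 (hc i)
  have hFval : ∀ r, algebraMap B L (F r) =
      ∑ i, (algebraMap A K (r i) * algebraMap A K (c i)) • β i := fun r => by
    simp only [F, Fintype.linearCombination_apply, map_sum, hsm, hw]
    refine Finset.sum_congr rfl fun i _ => ?_
    rw [mul_smul, algebraMap_smul, algebraMap_smul]
  have hFinj : Function.Injective F := by
    intro r r' h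
    have h' := congrArg (fun v => β.repr (algebraMap B L v)) h
    simp only [hFval] at h'
    refine funext fun i => IsFractionRing.injective A K ?_
    have := DFunLike.congr_fun h' i
    rw [β.repr_sum_self, β.repr_sum_self] at this
    exact mul_right_cancel₀ (hcK i) this
  have hFspan : ∀ b : B, ∃ d : A, d ≠ 0 ∧ d • b ∈ LinearMap.range F := by
    intro b
    let z := algebraMap B L b
    obtain ⟨⟨d, hd⟩, hd'⟩ := IsLocalization.exist_integer_multiples_of_finset (nonZeroDivisors A)
      (Finset.univ.image fun i => β.repr z i / algebraMap A K (c i))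
    choose r hr using fun i => hd' _ (Finset.mem_image_of_mem _ (Finset.mem_univ i))
    refine ⟨d, nonZeroDivisors.ne_zero hd, r, IsFractionRing.injective B L ?_⟩
    rw [hFval, hsm]
    conv_rhs => rw [← β.sum_repr (algebraMap B L b), Finset.smul_sum]
    refine Finset.sum_congr rfl fun i _ => ?_
    rw [hr i, smul_mul_assoc, div_mul_cancel₀ _ (hcK i), smul_assoc]
  constructor
  · intro hfin
    obtain ⟨t, ht⟩ := hfin.fg_top
    choose d hd hdF using hFspan
    let e := ∏ b ∈ t, d b
    have he : e ≠ 0 := Finset.prod_ne_zero_iff.2 fun b _ => hd b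
    have heF : ∀ b : B, e • b ∈ LinearMap.range F := by
      intro b
      have : (⊤ : Submodule A B) ≤ (LinearMap.range F).comap (LinearMap.lsmul A B e) := by
        rw [← ht, Submodule.span_le]
        intro b hb
        obtain ⟨k, hk⟩ := Finset.dvd_prod_of_mem d hb
        show e • b ∈ LinearMap.range F
        rw [show e = k * d b by rw [mul_comm]; exact hk, mul_smul]
        exact Submodule.smul_mem _ _ (hdF b)
      exact this trivial
    choose g hg using heF
    have hinjB : Function.Injective fun b : B => e • b := fun b b' h => by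
      simp only [Algebra.smul_def] at h
      exact mul_left_cancel₀ ((map_ne_zero_iff _ hBfg).2 he) h
    let G : B →ₗ[A] (Fin (finrank K L) → A) :=
      { toFun := g
        map_add' := fun b b' => hFinj (by rw [map_add, hg, hg, hg, smul_add])
        map_smul' := fun r b => hFinj (by
          rw [RingHom.id_apply, map_smul, hg, hg, smul_comm]) }
    have hGinj : Function.Injective G := fun b b' h => hinjB (by
      show e • b = e • b'
      rw [← hg b, ← hg b']; exact congrArg F h)
    let B' := LinearMap.range G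
    let mx : (Fin (finrank K L) → A) →ₗ[A] (Fin (finrank K L) → A) := LinearMap.lsmul A _ x
    let c0 := B'.map mx
    have hc0 : c0 ≤ B' := by rintro _ ⟨v, hv, rfl⟩; exact B'.smul_mem x hv
    have h1 : del ⊤ B' = del ((⊤ : Submodule A _).map mx) c0 := by
      have hmx : Function.Injective mx := fun u v h => funext fun i => by
        have := congrFun h i
        simpa [mx, hx0] using this
      have h := del_comap mx (a := (⊤ : Submodule A _)) (c := c0)
      rwa [top_inf_eq, Submodule.comap_map_eq_of_injective hmx,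
        sup_eq_left.2 (Submodule.map_mono le_top)] at h
    have h2 := del_add (R := A) hc0 (le_top : B' ≤ ⊤)
    have h3 := del_add (R := A) (Submodule.map_mono le_top : c0 ≤ (⊤ : Submodule A _).map mx) le_top
    rw [h2, ← h1, add_comm (del B' c0)] at h3
    have hxtop : (⊤ : Submodule A (Fin (finrank K L) → A)).map mx =
        x • (⊤ : Submodule A (Fin (finrank K L) → A)) := by
      ext v; simp [mx, mem_smul_top]
    have hfinq : del ⊤ B' ≠ ⊤ := by
      refine ne_top_of_le_ne_top (b := length A ((Fin (finrank K L) → A) ⧸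
        e • (⊤ : Submodule A (Fin (finrank K L) → A)))) ?_ ?_
      · rw [length_pi_quot]
        exact WithTop.mul_ne_top (ENat.natCast_ne_top _) (length_ne_top_iff.2
          (isFiniteLength_quotient_span_singleton A (mem_nonZeroDivisors_of_ne_zero he)))
      · unfold del
        refine le_trans (length_le_of_injective _ (Submodule.injective_subtype _)) ?_
        have hle : e • (⊤ : Submodule A (Fin (finrank K L) → A)) ≤ B' := fun v hv => by
          obtain ⟨v, rfl⟩ := mem_smul_top.1 hv
          exact ⟨F v, hFinj ((hg _).trans (map_smul F e v).symm)⟩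
        exact length_le_of_surjective (Submodule.factor hle) (Submodule.factor_surjective hle)
    have h4 := WithTop.add_left_cancel hfinq h3
    have h5 : del B' c0 = length A (B ⧸ x • (⊤ : Submodule A B)) := by
      have hm : Submodule.map c0.mkQ B' = LinearMap.range (c0.mkQ.comp G) :=
        (LinearMap.range_comp _ _).symm
      unfold del
      rw [hm, ← ((c0.mkQ.comp G).quotKerEquivRange).length_eq]
      refine (Submodule.quotEquivOfEq _ _ ?_).length_eq
      ext b
      rw [LinearMap.mem_ker, LinearMap.comp_apply, Submodule.mkQ_apply, Submodule.Quotient.mk_eq_zero,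
        mem_smul_top]
      constructor
      · rintro ⟨_, ⟨b', rfl⟩, hb'⟩
        exact ⟨b', hGinj ((map_smul G x b').trans hb')⟩
      · rintro ⟨b', rfl⟩
        exact ⟨G b', ⟨b', rfl⟩, (map_smul G x b').symm⟩
    have h6 : del (⊤ : Submodule A (Fin (finrank K L) → A)) ((⊤ : Submodule A _).map mx) =
        finrank K L * length A (A ⧸ Ideal.span {x}) := by
      unfold del
      rw [hxtop, Submodule.map_top, Submodule.range_mkQ, length_top, length_pi_quot]
    rw [← h5, h4, h6]
  · intro heq
    obtain ⟨hN, -⟩ := isFiniteLength_iff_isNoetherian_isArtinian.1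
      (length_ne_top_iff.1 (heq ▸ hnL : length A (B ⧸ x • (⊤ : Submodule A B)) ≠ ⊤))
    obtain ⟨t, ht⟩ := hN.noetherian ⊤
    let G : Submodule A B := LinearMap.range F ⊔
      Submodule.span A (Function.surjInv (Submodule.Quotient.mk_surjective (x • (⊤ : Submodule A B))) ''
        (↑t : Set (B ⧸ x • (⊤ : Submodule A B))))
    let θ : G →ₗ[A] B ⧸ x • (⊤ : Submodule A B) := (Submodule.mkQ _).comp G.subtype
    have hθ : Function.Surjective θ := by
      intro q
      have hq : q ∈ Submodule.span A (t : Set _) := by rw [ht]; trivial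
      induction hq using Submodule.span_induction with
      | mem y hy =>
        exact ⟨⟨_, Submodule.mem_sup_right (Submodule.subset_span ⟨y, hy, rfl⟩)⟩,
          Function.surjInv_eq (Submodule.Quotient.mk_surjective _) y⟩
      | zero => exact ⟨0, map_zero θ⟩
      | add y z _ _ hy hz =>
        obtain ⟨u, rfl⟩ := hy; obtain ⟨v, rfl⟩ := hz; exact ⟨u + v, map_add θ u v⟩
      | smul r y _ hy => obtain ⟨u, rfl⟩ := hy; exact ⟨r • u, map_smul θ r u⟩
    have hker : x • (⊤ : Submodule A G) ≤ LinearMap.ker θ := fun v hv => by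
      obtain ⟨v, rfl⟩ := mem_smul_top.1 hv
      exact (Submodule.Quotient.mk_eq_zero _).2 (mem_smul_top.2 ⟨(v : B), rfl⟩)
    obtain ⟨f, hf⟩ := exists_injective_pi (A := A) (K := K) (L := L) (B := B)
    have hG : length A (G ⧸ x • (⊤ : Submodule A G)) ≤ length A (B ⧸ x • (⊤ : Submodule A B)) := by
      rw [heq]
      exact length_quotient_le_pi hx0 _ G (f.comp G.subtype) (hf.comp (Submodule.injective_subtype _))
    have key : LinearMap.ker θ ≤ x • (⊤ : Submodule A G) := by
      let θ' := Submodule.liftQ _ θ hker
      have hsum := length_eq_add_of_exact (LinearMap.ker θ').subtype θ' (Submodule.injective_subtype _)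
        (fun q => by obtain ⟨u, rfl⟩ := hθ q; exact ⟨Submodule.Quotient.mk u, rfl⟩)
        (fun y => ⟨fun hy => ⟨⟨y, hy⟩, rfl⟩, by rintro ⟨z, rfl⟩; exact z.2⟩)
      rw [hsum] at hG
      have h0 : length A (LinearMap.ker θ') = 0 := by
        have htop : length A (B ⧸ x • (⊤ : Submodule A B)) ≠ ⊤ := heq ▸ hnL
        refine le_antisymm (WithTop.le_of_add_le_add_right htop ?_) zero_le
        exact hG.trans_eq (zero_add _).symm
      intro v hv
      have hv' : (Submodule.Quotient.mk v : G ⧸ x • (⊤ : Submodule A G)) ∈ LinearMap.ker θ' := hv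
      haveI := (Module.length_eq_zero_iff).1 h0
      exact (Submodule.Quotient.mk_eq_zero _).1
        (congrArg Subtype.val (Subsingleton.elim (⟨_, hv'⟩ : LinearMap.ker θ') 0))
    have hdesc : ∀ b : B, x • b ∈ G → b ∈ G := fun b hb => by
      have hv : (⟨x • b, hb⟩ : G) ∈ LinearMap.ker θ :=
        (Submodule.Quotient.mk_eq_zero _).2 (mem_smul_top.2 ⟨b, rfl⟩)
      obtain ⟨u, hu⟩ := mem_smul_top.1 (key hv)
      have hu' : x • (u : B) = x • b := congrArg Subtype.val hu
      simp only [Algebra.smul_def] at hu'
      exact mul_left_cancel₀ ((map_ne_zero_iff _ hBfg).2 hx0) hu' ▸ u.2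
    have htop : G = ⊤ := eq_top_iff.2 fun b _ => by
      obtain ⟨d, hd, hdF⟩ := hFspan b
      obtain ⟨k, hk⟩ := exists_pow_mem_span hx hd
      obtain ⟨q, hq⟩ := Ideal.mem_span_singleton'.1 hk
      have : ∀ k : ℕ, ∀ b : B, x ^ k • b ∈ G → b ∈ G := by
        intro k
        induction k with
        | zero => intro b hb; simpa using hb
        | succ k ih => intro b hb; rw [pow_succ, mul_smul] at hb; exact hdesc b (ih _ hb)
      refine this k b ?_
      rw [← hq, mul_smul]
      exact G.smul_mem _ (Submodule.mem_sup_left hdF)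
    exact ⟨htop ▸ (Submodule.FG.sup (LinearMap.range_eq_map F ▸ (Module.Finite.fg_top).map F)
      (Submodule.fg_span (t.finite_toSet.image _)) : G.FG)⟩

end Local

end Groth.Agent.KrullAki
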